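import Groth.Agent.L20.RepTensor.Group
import Groth.Agent.S8091
import Groth.Agent.L14.RedLR.Main
import Groth.Prelude.Def_GLin4
import Mathlib.LinearAlgebra.Matrix.ToLin

/-!
# Tensor products of semisimple representations in characteristic zero
-/

set_option autoImplicit false
set_option backward.isDefEq.respectTransparency.types false

universe u v w

open TensorProduct WithConv CategoryTheory AlgebraicGeometry
open scoped Matrix

noncomputable section

namespace Groth.L20.RepTensor

variable {K : Type u} [Field K] {G : Type v} [Group G]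

/-- the closure of a group of points -/
theorem exists_closure {A : Type u} [CommRing A] [HopfAlgebra K A] [Algebra.FiniteType K A]
    (Φ : G →* WithConv (A →ₐ[K] K)) :
    ∃ (B : Type u) (_ : CommRing B) (_ : HopfAlgebra K B) (π : A →ₐ[K] B) (Ψ : G →* WithConv (B →ₐ[K] K)),
      Function.Surjective π ∧ Algebra.FiniteType K B ∧ Separating Ψ ∧ (∀ g a, ev Ψ g (π a) = ev Φ g a) ∧
      (∀ a, Coalgebra.counit (R := K) (π a) = Coalgebra.counit (R := K) a) := by
  let J : Ideal A := ⨅ x ∈ Φ.range, RingHom.ker (WithConv.ofConv x : A →ₐ[K] K)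
  haveI : J.IsHopfIdeal K := Groth.Agent.S7974.result K A Φ.range
  have hJ : ∀ a, a ∈ J ↔ ∀ g, ev Φ g a = 0 := fun a => by
    simp only [J, Ideal.mem_iInf, RingHom.mem_ker]
    refine ⟨fun h g => h _ ⟨g, rfl⟩, ?_⟩
    rintro h _ ⟨g, rfl⟩
    exact h g
  let π : A →ₐ[K] A ⧸ J := Ideal.Quotient.mkₐ K J
  let lift : G → (A ⧸ J →ₐ[K] K) := fun g => Ideal.Quotient.liftₐ J (Φ g).ofConv fun a ha => (hJ a).1 ha g
  let Ψ : G →* WithConv (A ⧸ J →ₐ[K] K) :=
    { toFun := fun g => toConv (lift g)
      map_one' := WithConv.ofConv_injective (Ideal.Quotient.algHom_ext K (AlgHom.ext fun a => by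
        show ev Φ (1 : G) a = _
        rw [ev_one]; rfl))
      map_mul' := fun g g' => WithConv.ofConv_injective (Ideal.Quotient.algHom_ext K (AlgHom.ext fun a => by
        show ev Φ (g * g') a = (toConv (lift g) * toConv (lift g')).ofConv (π a)
        rw [ev_mul, AlgHom.convMul_apply]
        rw [show Coalgebra.comul (R := K) (π a) = TensorProduct.map π.toLinearMap π.toLinearMap (Coalgebra.comul (R := K) a) from
          (LinearMap.congr_fun (Bialgebra.Quotient.mkBialgHom (R := K) J).toCoalgHom.map_comp_comul a).symm]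
        induction Coalgebra.comul (R := K) a using TensorProduct.induction_on with
        | zero => simp
        | add p q hp hq => simp only [map_add, hp, hq]
        | tmul p q => simp [ev₂, lift, π])) }
  refine ⟨A ⧸ J, inferInstance, inferInstance, π, Ψ, Ideal.Quotient.mk_surjective,
    Algebra.FiniteType.of_surjective π Ideal.Quotient.mk_surjective, ?_, fun g a => rfl, fun a => rfl⟩
  intro b hb
  obtain ⟨a, rfl⟩ := Ideal.Quotient.mk_surjective b
  exact Ideal.Quotient.eq_zero_iff_mem.2 ((hJ a).2 fun g => hb g)

/-- a matrix representation gives points of the general linear group -/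
theorem exists_points {m : ℕ} (π : Representation K G (Fin m → K)) :
    ∃ Φ : G →* WithConv (CoordGrp.GLn m K →ₐ[K] K),
      ∀ g i j, ev Φ g (CoordGrp.GLn.X i j) = π g (Pi.single j 1) i := by
  classical
  let M : G → Matrix (Fin m) (Fin m) K := fun g => LinearMap.toMatrix' (π g)
  have hMM : ∀ g g', M (g * g') = M g * M g' := fun g g' => by
    simp only [M, map_mul]; exact LinearMap.toMatrix'_mul _ _
  have hM1 : M 1 = 1 := by simp only [M, map_one]; exact LinearMap.toMatrix'_id
  have hdet : ∀ g, (M g).det * (M g⁻¹).det = 1 := fun g => by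
    rw [← Matrix.det_mul, ← hMM, mul_inv_cancel, hM1, Matrix.det_one]
  let p : G → (CoordGrp.GLn m K →ₐ[K] K) := fun g => CoordGrp.GLn.pt m K (M g) (M g⁻¹).det (hdet g)
  refine ⟨{ toFun := fun g => toConv (p g), map_one' := ?_, map_mul' := fun g g' => ?_ }, fun g i j => ?_⟩
  · refine WithConv.ofConv_injective (CoordGrp.GLn.algHom_ext (fun i j => ?_) ?_)
    · simp [p, hM1, Matrix.one_apply, CoordGrp.GLn.counit_X]
    · simp [p, hM1, CoordGrp.GLn.counit_Dinv]
  · refine WithConv.ofConv_injective (CoordGrp.GLn.algHom_ext (fun i j => ?_) ?_)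
    · rw [AlgHom.convMul_apply, CoordGrp.GLn.comul_X]
      simp [p, hMM, Matrix.mul_apply]
    · rw [AlgHom.convMul_apply, CoordGrp.GLn.comul_Dinv]
      simp [p, hMM, mul_comm]
  · show p g (CoordGrp.GLn.X i j) = _
    simp [p, M, LinearMap.toMatrix'_apply]

/-- idempotent-free rings have connected spectrum -/
theorem connectedSpace_of_idempotents {B : Type u} [CommRing B] [Nontrivial B]
    (h : ∀ e : B, IsIdempotentElem e → e = 0 ∨ e = 1) : ConnectedSpace ↥(Spec (CommRingCat.of B)) := by
  change ConnectedSpace (PrimeSpectrum B)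
  rw [connectedSpace_iff_clopen]
  refine ⟨inferInstance, fun s hs => ?_⟩
  obtain ⟨e, he, hse⟩ := PrimeSpectrum.isClopen_iff.1 hs
  rcases h e he with rfl | rfl
  · exact Or.inl (by rw [hse]; simp)
  · exact Or.inr (by rw [hse]; simp)

/-- a point fixing all vectors takes the identity matrix as values on the coefficients -/
theorem coeff_eq_of_fix {B : Type u} [CommRing B] [HopfAlgebra K B] {Φ : G →* WithConv (B →ₐ[K] K)}
    (h : Separating Φ) {n : ℕ} [HopfRep.Comod K B (Fin n → K)] (θ : Representation K G (Fin n → K))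
    (c : Fin n → Fin n → B) (hc : ∀ g i j, ev Φ g (c i j) = θ g (Pi.single j 1) i)
    (hθ : ∀ g v, Groth.L08.fAct (Fin n → K) (Φ g).ofConv.toLinearMap v = θ g v) (x : B →ₐ[K] K)
    (hx : ∀ v : Fin n → K, x.toLinearMap.lTensor (Fin n → K) (HopfRep.Comod.coact (k := K) (A := B) v) = v ⊗ₜ[K] 1)
    (i j : Fin n) : x (c i j) = if i = j then 1 else 0 := by
  have hval : x.toLinearMap (Groth.L08.cf (A := B) (LinearMap.proj i) (Pi.single j (1 : K) : Fin n → K)) =
      if i = j then 1 else 0 := by
    rw [Groth.L08.apply_cf, Groth.L08.fAct_apply, hx, TensorProduct.rid_tmul, one_smul]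
    exact Pi.single_apply j (1 : K) i
  rw [← hval]
  show x (c i j) = x (Groth.L08.cf (A := B) (LinearMap.proj i) (Pi.single j (1 : K) : Fin n → K))
  congr 1
  refine sub_eq_zero.1 (h _ fun g => ?_)
  rw [ev, map_sub, sub_eq_zero]
  show ev Φ g _ = (Φ g).ofConv.toLinearMap (Groth.L08.cf (A := B) (LinearMap.proj i) (Pi.single j (1 : K) : Fin n → K))
  rw [hc, Groth.L08.apply_cf, hθ]
  rfl

/-- over an algebraically closed field of characteristic zero tensor products of semisimple matrix representations
are semisimple -/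
theorem isSS_tensor_closed [IsAlgClosed K] [CharZero K] {a b : ℕ} (ρ : Representation K G (Fin a → K))
    (σ : Representation K G (Fin b → K)) (hρ : IsSS ρ) (hσ : IsSS σ) : IsSS (ρ.tprod σ) := by
  classical
  let e : ((Fin a → K) × (Fin b → K)) ≃ₗ[K] (Fin (a + b) → K) :=
    (LinearEquiv.sumArrowLequivProdArrow (Fin a) (Fin b) K K).symm ≪≫ₗ
      LinearEquiv.funCongrLeft K K finSumFinEquiv.symm
  let pr : Representation K G ((Fin a → K) × (Fin b → K)) :=
    { toFun := fun g => (ρ g).prodMap (σ g)
      map_one' := by simp only [map_one]; exact LinearMap.prodMap_one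
      map_mul' := fun g g' => by simp only [map_mul]; exact (LinearMap.prodMap_mul _ _ _ _).symm }
  let π : Representation K G (Fin (a + b) → K) :=
    { toFun := fun g => e.conj (pr g)
      map_one' := by rw [map_one]; exact e.conj_id
      map_mul' := fun g g' => by rw [map_mul]; exact (LinearEquiv.conjRingEquiv e).map_mul _ _ }
  have hπ : IsSS π := (hρ.prod hσ pr fun g v w => rfl).congr e fun g v => by
    show e (pr g v) = e (pr g (e.symm (e v)))
    rw [e.symm_apply_apply]
  have heL : ∀ j, e (Pi.single j 1, 0) = Pi.single (Fin.castAdd b j) 1 := fun j => by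
    ext i
    refine Fin.addCases (fun i => ?_) (fun i => ?_) i
    · simp [e, LinearEquiv.funCongrLeft, Pi.single_apply]
    · simp [e, LinearEquiv.funCongrLeft, Pi.single_apply, Fin.ext_iff]
      omega
  have heR : ∀ j, e (0, Pi.single j 1) = Pi.single (Fin.natAdd a j) 1 := fun j => by
    ext i
    refine Fin.addCases (fun i => ?_) (fun i => ?_) i
    · simp [e, LinearEquiv.funCongrLeft, Pi.single_apply, Fin.ext_iff]
      omega
    · simp [e, LinearEquiv.funCongrLeft, Pi.single_apply]
  have heL' : ∀ (v : Fin a → K) (w : Fin b → K) i, e (v, w) (Fin.castAdd b i) = v i := fun v w i => by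
    simp [e, LinearEquiv.funCongrLeft]
  have heR' : ∀ (v : Fin a → K) (w : Fin b → K) i, e (v, w) (Fin.natAdd a i) = w i := fun v w i => by
    simp [e, LinearEquiv.funCongrLeft]
  have hπL : ∀ g i j, π g (Pi.single (Fin.castAdd b j) 1) (Fin.castAdd b i) = ρ g (Pi.single j 1) i := fun g i j => by
    rw [← heL]
    show e (pr g (e.symm (e _))) _ = _
    rw [e.symm_apply_apply]
    exact heL' _ _ i
  have hπR : ∀ g i j, π g (Pi.single (Fin.natAdd a j) 1) (Fin.natAdd a i) = σ g (Pi.single j 1) i := fun g i j => by
    rw [← heR]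
    show e (pr g (e.symm (e _))) _ = _
    rw [e.symm_apply_apply]
    exact heR' _ _ i
  obtain ⟨Φ₀, hΦ₀⟩ := exists_points π
  haveI : Algebra.FiniteType K (CoordGrp.GLb (a + b) K) :=
    inferInstanceAs (Algebra.FiniteType K (MvPolynomial (CoordGrp.GLPoly.Idx (a + b)) K))
  haveI : Algebra.FiniteType K (CoordGrp.GLn (a + b) K) :=
    Algebra.FiniteType.of_surjective (CoordGrp.GLn.mk (a + b) K) Ideal.Quotient.mk_surjective
  obtain ⟨A, _, _, q, Φ, hq, hAft, hsep, hqΦ, hqε⟩ := exists_closure Φ₀
  haveI := hAft
  obtain ⟨N, hNn, hNf, B, _, _, p, Ψ, hp, hBft, hsepB, hpΨ, hid⟩ := exists_connected hsep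
  haveI := hNn; haveI := hNf; haveI := hBft
  haveI : _root_.IsReduced B := hsepB.isReduced
  haveI : Nontrivial B := (Bialgebra.counitAlgHom K B).toRingHom.domain_nontrivial
  haveI : ConnectedSpace ↥(Spec (CommRingCat.of B)) := connectedSpace_of_idempotents hid
  let r : CoordGrp.GLn (a + b) K →ₐ[K] B := p.comp q
  have hr : Function.Surjective r := hp.comp hq
  have hev : ∀ (g : N) i j, ev Ψ g (r (CoordGrp.GLn.X i j)) = π g (Pi.single j 1) i := fun g i j => by
    show ev Ψ g (p (q _)) = _
    rw [hpΨ, hqΦ, hΦ₀]
  -- the faithful semisimple comodule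
  obtain ⟨cV, hcV⟩ := exists_comod hsepB (π.comp N.subtype) (fun i j => r (CoordGrp.GLn.X i j)) hev
  have hLR : HopfRep.IsLinearlyReductive K B := by
    letI := cV
    refine Groth.L14.RedLR.isLinearlyReductive_of_isReductive ?_
    haveI : Smooth (Groth.L25.Observable.Sp K B).hom := smooth_Sp
    haveI : IsAffine (Groth.L25.Observable.Sp K B).left := inferInstanceAs (IsAffine (Spec (CommRingCat.of B)))
    haveI : ConnectedSpace (Groth.L25.Observable.Sp K B).left := ‹ConnectedSpace ↥(Spec (CommRingCat.of B))›
    refine isReductive_of_isReductiveOver (G := Groth.L25.Observable.Sp K B) fun U _ i _ hci hs hc hn hU => ?_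
    haveI := hci
    haveI := hs
    haveI := hc
    refine eq_one_of_semisimple (isSemisimpleComod_of_isSS hsepB (π.comp N.subtype) hcV (hπ.restrict_normal N))
      (fun x hx => ?_) i hn hU
    have hx' : ∀ i j, x (r (CoordGrp.GLn.X i j)) = if i = j then (1 : K) else 0 := fun i j => by
      exact coeff_eq_of_fix hsepB (π.comp N.subtype) (fun i j => r (CoordGrp.GLn.X i j)) hev hcV x hx i j
    have hcx : x.comp r = Bialgebra.counitAlgHom K (CoordGrp.GLn (a + b) K) := by
      refine CoordGrp.GLn.algHom_ext (fun i j => ?_) ?_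
      · rw [AlgHom.comp_apply, hx', Bialgebra.counitAlgHom_apply, CoordGrp.GLn.counit_X]
      · have h1 : (x.comp r) CoordGrp.GLn.det = 1 := by
          rw [CoordGrp.GLn.det_eq, AlgHom.map_det]
          rw [show (x.comp r).mapMatrix (CoordGrp.GLn.genMat (a + b) K) = 1 by
            ext i j
            simp [CoordGrp.GLn.genMat, hx', Matrix.one_apply], Matrix.det_one]
        have h2 := congrArg (x.comp r) (CoordGrp.GLn.det_mul_Dinv (n := a + b) (k := K))
        rw [map_mul, map_one, h1, one_mul] at h2
        rw [h2, Bialgebra.counitAlgHom_apply, CoordGrp.GLn.counit_Dinv]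
    have hpε : ∀ y, Coalgebra.counit (R := K) (p y) = Coalgebra.counit (R := K) y := fun y => by
      rw [← ev_one Ψ, hpΨ, ← ev_one Φ, OneMemClass.coe_one]
    refine AlgHom.ext fun y => ?_
    obtain ⟨z, rfl⟩ := hr y
    refine (AlgHom.congr_fun hcx z).trans ?_
    simp [r, hpε, hqε]
  -- the tensor product
  let bT : Module.Basis (Fin (a * b)) K ((Fin a → K) ⊗[K] (Fin b → K)) :=
    ((Pi.basisFun K (Fin a)).tensorProduct (Pi.basisFun K (Fin b))).reindex finProdFinEquiv
  let τ : Representation K G (Fin (a * b) → K) :=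
    { toFun := fun g => bT.equivFun.conj (ρ.tprod σ g)
      map_one' := by rw [map_one]; exact bT.equivFun.conj_id
      map_mul' := fun g g' => by rw [map_mul]; exact (LinearEquiv.conjRingEquiv bT.equivFun).map_mul _ _ }
  let d : Fin (a * b) → Fin (a * b) → B := fun i j =>
    r (CoordGrp.GLn.X (Fin.castAdd b (finProdFinEquiv.symm i).1) (Fin.castAdd b (finProdFinEquiv.symm j).1)) *
      r (CoordGrp.GLn.X (Fin.natAdd a (finProdFinEquiv.symm i).2) (Fin.natAdd a (finProdFinEquiv.symm j).2))
  obtain ⟨cT, hcT⟩ := exists_comod hsepB (τ.comp N.subtype) d fun g i j => by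
    rw [ev, map_mul]
    show ev Ψ g _ * ev Ψ g _ = _
    rw [hev, hev, hπL, hπR]
    show _ = bT.equivFun (ρ.tprod σ (g : G) (bT.equivFun.symm (Pi.single j 1))) i
    rw [Module.Basis.equivFun_symm_apply]
    simp [bT, Pi.single_apply, Module.Basis.tensorProduct_repr_tmul_apply, mul_comm]
  letI := cT
  have hT : IsSS (τ.comp N.subtype) :=
    isSS_of_isSemisimpleComod hsepB _ hcT (hLR _ inferInstance)
  exact (hT.of_finiteIndex N).congr bT.equivFun.symm fun g v => by
    show bT.equivFun.symm (bT.equivFun (ρ.tprod σ g (bT.equivFun.symm v))) = _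
    rw [LinearEquiv.symm_apply_apply]

/-- tensor products of semisimple representations in characteristic zero are semisimple -/
theorem isSS_tensor {k : Type u} [Field k] [CharZero k] {V W : Type w} [AddCommGroup V] [Module k V]
    [FiniteDimensional k V] [AddCommGroup W] [Module k W] [FiniteDimensional k W]
    (ρ : Representation k G V) (σ : Representation k G W) (hρ : IsSS ρ) (hσ : IsSS σ) : IsSS (ρ.tprod σ) := by
  classical
  haveI : CharZero (AlgebraicClosure k) := charZero_of_injective_algebraMap (algebraMap k _).injective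
  let bV := Module.finBasis k V
  let bW := Module.finBasis k W
  let ρ' : Representation k G (Fin (Module.finrank k V) → k) :=
    { toFun := fun g => bV.equivFun.conj (ρ g)
      map_one' := by rw [map_one]; exact bV.equivFun.conj_id
      map_mul' := fun g g' => by rw [map_mul]; exact (LinearEquiv.conjRingEquiv bV.equivFun).map_mul _ _ }
  let σ' : Representation k G (Fin (Module.finrank k W) → k) :=
    { toFun := fun g => bW.equivFun.conj (σ g)
      map_one' := by rw [map_one]; exact bW.equivFun.conj_id
      map_mul' := fun g g' => by rw [map_mul]; exact (LinearEquiv.conjRingEquiv bW.equivFun).map_mul _ _ }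
  have hρ' : IsSS ρ' := hρ.congr bV.equivFun fun g v => by
    show _ = bV.equivFun (ρ g (bV.equivFun.symm (bV.equivFun v)))
    rw [LinearEquiv.symm_apply_apply]
  have hσ' : IsSS σ' := hσ.congr bW.equivFun fun g v => by
    show _ = bW.equivFun (σ g (bW.equivFun.symm (bW.equivFun v)))
    rw [LinearEquiv.symm_apply_apply]
  let bc : ∀ {M : Type u} [AddCommGroup M] [Module k M] (θ : Representation k G M),
      Representation (AlgebraicClosure k) G (AlgebraicClosure k ⊗[k] M) := fun {M} _ _ θ =>
    (Module.End.baseChangeHom k (AlgebraicClosure k) M).toRingHom.toMonoidHom.comp θ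
  have hbc : ∀ {M : Type u} [AddCommGroup M] [Module k M] (θ : Representation k G M) g (c : AlgebraicClosure k) (v : M),
      bc θ g (c ⊗ₜ v) = c ⊗ₜ θ g v := fun θ g c v => rfl
  let mk : ∀ {n : ℕ} (θ : Representation k G (Fin n → k)),
      Representation (AlgebraicClosure k) G (Fin n → AlgebraicClosure k) := fun {n} θ =>
    { toFun := fun g => (TensorProduct.piScalarRight k (AlgebraicClosure k) (AlgebraicClosure k) (Fin n)).conj (bc θ g)
      map_one' := by rw [map_one]; exact LinearEquiv.conj_id _
      map_mul' := fun g g' => by rw [map_mul]; exact (LinearEquiv.conjRingEquiv _).map_mul _ _ }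
  have hmk : ∀ {n : ℕ} (θ : Representation k G (Fin n → k)) g x,
      TensorProduct.piScalarRight k (AlgebraicClosure k) (AlgebraicClosure k) (Fin n) (bc θ g x) =
        mk θ g (TensorProduct.piScalarRight k (AlgebraicClosure k) (AlgebraicClosure k) (Fin n) x) := fun θ g x => by
    show _ = TensorProduct.piScalarRight k _ _ _ (bc θ g ((TensorProduct.piScalarRight k _ _ _).symm _))
    rw [LinearEquiv.symm_apply_apply]
  have hK := isSS_tensor_closed (mk ρ') (mk σ') ((hρ'.ascend (hbc ρ')).congr _ (hmk ρ'))
    ((hσ'.ascend (hbc σ')).congr _ (hmk σ'))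
  let E := (TensorProduct.congr
      (TensorProduct.piScalarRight k (AlgebraicClosure k) (AlgebraicClosure k) (Fin (Module.finrank k V)))
      (TensorProduct.piScalarRight k (AlgebraicClosure k) (AlgebraicClosure k) (Fin (Module.finrank k W)))).symm ≪≫ₗ
    (TensorProduct.AlgebraTensorModule.distribBaseChange k (AlgebraicClosure k) (Fin (Module.finrank k V) → k)
      (Fin (Module.finrank k W) → k)).symm
  have h1 : IsSS (bc (ρ'.tprod σ')) := hK.congr E fun g x => by
    induction x using TensorProduct.induction_on with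
    | zero => simp
    | add p q hp hq => simp only [map_add, hp, hq]
    | tmul p q =>
      obtain ⟨p, rfl⟩ := (TensorProduct.piScalarRight k (AlgebraicClosure k) (AlgebraicClosure k)
        (Fin (Module.finrank k V))).surjective p
      obtain ⟨q, rfl⟩ := (TensorProduct.piScalarRight k (AlgebraicClosure k) (AlgebraicClosure k)
        (Fin (Module.finrank k W))).surjective q
      rw [Representation.tprod_apply, TensorProduct.map_tmul, ← hmk, ← hmk]
      simp only [E, LinearEquiv.trans_apply, TensorProduct.congr_symm_tmul, LinearEquiv.symm_apply_apply]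
      induction p using TensorProduct.induction_on with
      | zero => simp
      | add p₁ p₂ h₁ h₂ => simp only [map_add, TensorProduct.add_tmul, h₁, h₂]
      | tmul c v =>
        induction q using TensorProduct.induction_on with
        | zero => simp
        | add q₁ q₂ h₁ h₂ => simp only [map_add, TensorProduct.tmul_add, h₁, h₂]
        | tmul d w => simp [hbc]
  exact (IsSS.descend (hbc (ρ'.tprod σ')) h1).congr (TensorProduct.congr bV.equivFun.symm bW.equivFun.symm) fun g x => by
    induction x using TensorProduct.induction_on with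
    | zero => simp
    | add p q hp hq => simp only [map_add, hp, hq]
    | tmul p q => simp [ρ', σ']

end Groth.L20.RepTensor
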