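import Groth.Agent.S11684
import Mathlib.RepresentationTheory.Semisimple
import Mathlib.RingTheory.SimpleModule.Basic
import Mathlib.LinearAlgebra.Semisimple
import Mathlib.FieldTheory.Perfect
import Mathlib.LinearAlgebra.TensorProduct.Tower
import Mathlib.GroupTheory.Index

/-!
# Semisimplicity of representations under base change, products and finite index subgroups
-/

set_option autoImplicit false

universe u v w w'

open TensorProduct

noncomputable section

namespace Groth.L20.RepTensor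

variable {k : Type u} [Field k] {G : Type v} [Monoid G] {V : Type w} [AddCommGroup V] [Module k V]
  {W : Type w'} [AddCommGroup W] [Module k W]

/-- every invariant subspace has an invariant complement -/
def IsSS (ρ : Representation k G V) : Prop :=
  ∀ S : Submodule k V, (∀ g, ∀ v ∈ S, ρ g v ∈ S) →
    ∃ T : Submodule k V, (∀ g, ∀ v ∈ T, ρ g v ∈ T) ∧ IsCompl S T

theorem isSS_iff (ρ : Representation k G V) : IsSS ρ ↔ ρ.IsSemisimpleRepresentation := by
  constructor
  · intro h
    refine ⟨fun S => ?_⟩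
    obtain ⟨T, hT, hST⟩ := h S.toSubmodule fun g v hv => S.apply_mem_toSubmodule g hv
    refine ⟨⟨T, fun g v hv => hT g v hv⟩, disjoint_iff.2 ?_, codisjoint_iff.2 ?_⟩
    · exact Subrepresentation.toSubmodule_injective hST.inf_eq_bot
    · exact Subrepresentation.toSubmodule_injective hST.sup_eq_top
  · intro h S hS
    obtain ⟨T, hT⟩ := exists_isCompl (⟨S, fun g v hv => hS g v hv⟩ : Subrepresentation ρ)
    exact ⟨T.toSubmodule, fun g v hv => T.apply_mem_toSubmodule g hv,
      disjoint_iff.2 (congrArg Subrepresentation.toSubmodule hT.inf_eq_bot),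
      codisjoint_iff.2 (congrArg Subrepresentation.toSubmodule hT.sup_eq_top)⟩

theorem IsSS.congr {ρ : Representation k G V} {σ : Representation k G W} (h : IsSS ρ) (e : V ≃ₗ[k] W)
    (he : ∀ g v, e (ρ g v) = σ g (e v)) : IsSS σ := by
  intro S hS
  obtain ⟨T, hT, hc⟩ := h (S.comap e.toLinearMap) fun g v hv => by
    simp only [Submodule.mem_comap, LinearEquiv.coe_coe, he] at hv ⊢; exact hS g _ hv
  refine ⟨T.map e.toLinearMap, ?_, ?_⟩
  · rintro g _ ⟨v, hv, rfl⟩
    exact ⟨ρ g v, hT g v hv, he g v⟩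
  · have := (Submodule.orderIsoMapComap e).isCompl_iff.1 hc
    have e1 : (S.comap e.toLinearMap).map e.toLinearMap = S :=
      Submodule.map_comap_eq_of_surjective e.surjective S
    rwa [Submodule.orderIsoMapComap_apply, Submodule.orderIsoMapComap_apply, show
      ((e : V →ₗ[k] W)) = e.toLinearMap from rfl, e1] at this

theorem IsSS.prod {ρ : Representation k G V} {σ : Representation k G W} (hρ : IsSS ρ) (hσ : IsSS σ)
    (π : Representation k G (V × W)) (hπ : ∀ g v w, π g (v, w) = (ρ g v, σ g w)) : IsSS π := by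
  intro S hS
  obtain ⟨A', hA', hA⟩ := hρ (S.comap (LinearMap.inl k V W)) fun g v hv => by
    have h := hS g _ hv
    rw [LinearMap.inl_apply, hπ, map_zero] at h
    exact h
  obtain ⟨C', hC', hC⟩ := hσ (S.map (LinearMap.snd k V W)) (by
    rintro g _ ⟨⟨a, b⟩, hab, rfl⟩
    exact ⟨π g (a, b), hS g _ hab, by rw [hπ]; rfl⟩)
  refine ⟨A'.prod C', ?_, disjoint_iff_inf_le.2 ?_, codisjoint_iff_le_sup.2 ?_⟩
  · rintro g ⟨a, c⟩ ⟨ha, hc⟩
    rw [hπ]
    exact ⟨hA' g a ha, hC' g c hc⟩
  · rintro ⟨a, c⟩ ⟨hx, ha, hc⟩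
    have hc0 : c = 0 := (Submodule.disjoint_def.1 hC.disjoint) c ⟨(a, c), hx, rfl⟩ hc
    subst hc0
    have ha0 : a = 0 := (Submodule.disjoint_def.1 hA.disjoint) a hx ha
    subst ha0
    exact Submodule.zero_mem _
  · rintro ⟨v, w⟩ -
    obtain ⟨p, hp, c, hc, rfl⟩ := Submodule.mem_sup.1 (hC.codisjoint.eq_top ▸ Submodule.mem_top (x := w))
    obtain ⟨⟨x, p'⟩, hx, rfl⟩ := hp
    obtain ⟨a, ha, a', ha', he⟩ := Submodule.mem_sup.1 (hA.codisjoint.eq_top ▸ Submodule.mem_top (x := v - x))
    refine Submodule.mem_sup.2 ⟨(x, p') + (a, 0), S.add_mem hx ha, (a', c), ⟨ha', hc⟩, ?_⟩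
    refine Prod.ext ?_ ?_
    · show x + a + a' = v
      rw [add_assoc, he]; abel
    · show p' + 0 + c = p' + c
      rw [add_zero]

/-- semisimplicity descends along field extensions -/
theorem IsSS.descend {K : Type w'} [Field K] [Algebra k K] {ρ : Representation k G V}
    {ρK : Representation K G (K ⊗[k] V)} (hρK : ∀ g (a : K) v, ρK g (a ⊗ₜ v) = a ⊗ₜ ρ g v) (h : IsSS ρK) :
    IsSS ρ := by
  intro S hS
  have hstab : ∀ g, ∀ x ∈ S.baseChange K, ρK g x ∈ S.baseChange K := by
    intro g x hx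
    rw [Submodule.baseChange_eq_span] at hx ⊢
    induction hx using Submodule.span_induction with
    | mem y hy =>
      obtain ⟨v, hv, rfl⟩ := hy
      exact Submodule.subset_span ⟨ρ g v, hS g v hv, (hρK g 1 v).symm⟩
    | zero => simp
    | add _ _ _ _ ha hb => rw [map_add]; exact add_mem ha hb
    | smul c _ _ ha => rw [map_smul]; exact Submodule.smul_mem _ c ha
  obtain ⟨T, hT, hc⟩ := h _ hstab
  let P : K ⊗[k] V →ₗ[K] K ⊗[k] V :=
    (S.baseChange K).subtype ∘ₗ (S.baseChange K).projectionOnto T hc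
  have hP : ∀ g x, P (ρK g x) = ρK g (P x) := by
    intro g x
    obtain ⟨a, ha, b, hb, rfl⟩ := Submodule.mem_sup.1 (hc.codisjoint.eq_top ▸ Submodule.mem_top (x := x))
    have e1 : ∀ y ∈ S.baseChange K, P y = y := fun y hy =>
      congrArg Subtype.val (Submodule.projectionOnto_apply_left hc ⟨y, hy⟩)
    have e2 : ∀ y ∈ T, P y = 0 := fun y hy =>
      congrArg Subtype.val ((Submodule.projectionOnto_apply_eq_zero_iff hc).2 hy)
    rw [map_add, map_add, map_add, map_add, e1 _ (hstab g a ha), e2 _ (hT g b hb), e1 a ha, e2 b hb, map_zero]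
  obtain ⟨c, hc1⟩ := LinearMap.exists_leftInverse_of_injective (Algebra.linearMap k K)
    (LinearMap.ker_eq_bot.2 (algebraMap k K).injective)
  let r : K ⊗[k] V →ₗ[k] V := (TensorProduct.lid k V).toLinearMap ∘ₗ c.rTensor V
  have hr : ∀ g x, r (ρK g x) = ρ g (r x) := by
    intro g x
    induction x using TensorProduct.induction_on with
    | zero => simp
    | add a b ha hb => simp only [map_add, ha, hb]
    | tmul a v => simp [r, hρK]
  let q : V →ₗ[k] V := r ∘ₗ (P.restrictScalars k) ∘ₗ TensorProduct.mk k K V 1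
  have hq : ∀ g v, q (ρ g v) = ρ g (q v) := fun g v => by
    show r (P ((1 : K) ⊗ₜ ρ g v)) = ρ g (r (P ((1 : K) ⊗ₜ v)))
    rw [← hr, ← hP, hρK]
  have hone : ∀ v, r ((1 : K) ⊗ₜ v) = v := fun v => by
    have : c 1 = 1 := by simpa using LinearMap.congr_fun hc1 1
    simp [r, this]
  have hq1 : ∀ v ∈ S, q v = v := fun v hv => by
    show r (P ((1 : K) ⊗ₜ v)) = v
    have hm : (1 : K) ⊗ₜ v ∈ S.baseChange K := Submodule.tmul_mem_baseChange_of_mem 1 hv
    rw [show P ((1 : K) ⊗ₜ v) = (1 : K) ⊗ₜ v from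
      congrArg Subtype.val (Submodule.projectionOnto_apply_left hc ⟨_, hm⟩), hone]
  have hq2 : ∀ v, q v ∈ S := fun v => by
    show r (P ((1 : K) ⊗ₜ v)) ∈ S
    have hm : P ((1 : K) ⊗ₜ v) ∈ S.baseChange K := Subtype.mem _
    generalize P ((1 : K) ⊗ₜ v) = y at hm
    suffices ∀ y ∈ S.baseChange K, ∀ a : K, r (a • y) ∈ S by simpa using this y hm 1
    intro y hy
    rw [Submodule.baseChange_eq_span] at hy
    induction hy using Submodule.span_induction with
    | mem z hz =>
      obtain ⟨v, hv, rfl⟩ := hz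
      intro a
      show r (a • ((1 : K) ⊗ₜ v)) ∈ S
      rw [TensorProduct.smul_tmul', smul_eq_mul, mul_one]
      simpa [r] using S.smul_mem (c a) hv
    | zero => simp
    | add _ _ _ _ ha hb => intro a; rw [smul_add, map_add]; exact add_mem (ha a) (hb a)
    | smul b _ _ ha => intro a; rw [smul_smul]; exact ha _
  refine ⟨LinearMap.ker q, fun g v hv => ?_, ?_, ?_⟩
  · rw [LinearMap.mem_ker] at hv ⊢
    rw [hq, hv, map_zero]
  · exact Submodule.disjoint_def.2 fun x hx hx' => (hq1 x hx).symm.trans hx'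
  · refine codisjoint_iff_le_sup.2 fun v _ => Submodule.mem_sup.2 ⟨q v, hq2 v, v - q v, ?_, by abel⟩
    rw [LinearMap.mem_ker, map_sub, hq1 _ (hq2 v), sub_self]

section Ascend

variable [FiniteDimensional k V]

/-- the enveloping algebra of a semisimple representation is semisimple -/
theorem IsSS.isSemisimpleRing {ρ : Representation k G V} (h : IsSS ρ) :
    IsSemisimpleRing (Algebra.adjoin k (Set.range ρ)) := by
  let B := Algebra.adjoin k (Set.range ρ)
  haveI : IsSemisimpleModule B V := by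
    refine (isSemisimpleModule_iff B V).2 ⟨fun p => ?_⟩
    obtain ⟨T, hT, hc⟩ := h (p.restrictScalars k) fun g v hv =>
      p.smul_mem (⟨ρ g, Algebra.subset_adjoin ⟨g, rfl⟩⟩ : B) hv
    have hTB : ∀ (b : B), ∀ v ∈ T, (b : Module.End k V) v ∈ T := by
      rintro ⟨b, hb⟩
      induction hb using Algebra.adjoin_induction with
      | mem x hx => obtain ⟨g, rfl⟩ := hx; exact hT g
      | algebraMap a => intro v hv; simpa using T.smul_mem a hv
      | add _ _ _ _ ha hb => intro v hv; exact add_mem (ha v hv) (hb v hv)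
      | mul _ _ _ _ ha hb => intro v hv; exact ha _ (hb v hv)
    refine ⟨{ T.toAddSubmonoid with smul_mem' := fun b v hv => hTB b v hv }, ?_, ?_⟩
    · exact Submodule.disjoint_def.2 fun x h1 h2 => Submodule.disjoint_def.1 hc.disjoint x h1 h2
    · refine codisjoint_iff_le_sup.2 fun v _ => ?_
      obtain ⟨a, ha, b, hb, rfl⟩ := Submodule.mem_sup.1 (hc.codisjoint.eq_top ▸ Submodule.mem_top (x := v))
      exact Submodule.mem_sup.2 ⟨a, ha, b, hb, rfl⟩
  let b := Module.finBasis k V
  let f : B →ₗ[B] (Fin (Module.finrank k V) → V) :=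
    LinearMap.pi fun i => LinearMap.toSpanSingleton B V (b i)
  exact IsSemisimpleModule.of_injective f fun x y hxy =>
    Subtype.ext (b.ext fun i => congrFun hxy i)

omit [FiniteDimensional k V] in
/-- the centre of a semisimple algebra over a perfect field is separable -/
theorem isSeparable_center [PerfectField k] (B : Type*) [Ring B] [Algebra k B] [FiniteDimensional k B]
    [IsSemisimpleRing B] : Algebra.IsSeparable k (Subalgebra.center k B) := by
  haveI : IsReduced (Subalgebra.center k B) := by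
    refine ⟨fun z hz => ?_⟩
    have hsq : ∀ z : Subalgebra.center k B, z * z = 0 → z = 0 := by
      intro z hz
      obtain ⟨C, hC⟩ := exists_isCompl (Ideal.span {(z : B)})
      obtain ⟨a, ha, c, hc, hac⟩ := Submodule.mem_sup.1 (hC.codisjoint.eq_top ▸ Submodule.mem_top (x := (1 : B)))
      obtain ⟨a, rfl⟩ := Ideal.mem_span_singleton'.1 ha
      have hzz : (z : B) * z = 0 := congrArg Subtype.val hz
      have hcomm : ∀ x : B, (z : B) * x = x * z := fun x => (Subalgebra.mem_center_iff.1 z.2 x).symm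
      have e : (z : B) = z * c := by
        have := congrArg ((z : B) * ·) hac
        simp only [mul_add, mul_one] at this
        rw [hcomm (a * z), mul_assoc, hzz, mul_zero, zero_add] at this
        exact this.symm
      refine Subtype.ext ?_
      exact Submodule.disjoint_def.1 hC.disjoint _ (Ideal.subset_span rfl)
        (e ▸ Ideal.mul_mem_left C _ hc)
    obtain ⟨n, hn⟩ := hz
    induction n using Nat.strong_induction_on with
    | _ n ih =>
      rcases Nat.lt_or_ge n 2 with h | h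
      · interval_cases n
        · rw [pow_zero] at hn; rw [← mul_one z, hn, mul_zero]
        · rwa [pow_one] at hn
      · refine ih ((n + 1) / 2) (by omega) (hsq _ ?_)
        rw [← pow_add, show (n + 1) / 2 + (n + 1) / 2 = n + ((n + 1) / 2 + (n + 1) / 2 - n) by omega, pow_add, hn,
          zero_mul]
  refine ⟨fun x => ?_⟩
  rw [IsSeparable, PerfectField.separable_iff_squarefree]
  intro q hq
  obtain ⟨r, hr⟩ := hq
  have hint : IsIntegral k x := Algebra.IsIntegral.isIntegral x
  by_contra hu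
  have h0 : Polynomial.aeval x (q * r) = 0 := by
    refine IsReduced.eq_zero _ ⟨2, ?_⟩
    rw [← map_pow, show (q * r) ^ 2 = (q * q * r) * r by ring, map_mul, ← hr, minpoly.aeval, zero_mul]
  have hm := minpoly.ne_zero hint
  have hqr : q * r ≠ 0 := fun h => hm (by rw [hr, mul_assoc, h, mul_zero])
  have h1 := minpoly.degree_le_of_ne_zero k x hqr h0
  rw [hr, mul_assoc, Polynomial.degree_mul] at h1
  rw [Polynomial.degree_eq_natDegree (left_ne_zero_of_mul hqr),
    Polynomial.degree_eq_natDegree hqr, ← Nat.cast_add, Nat.cast_le] at h1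
  have h2 : q.natDegree = 0 := by omega
  exact hu (Polynomial.isUnit_iff_degree_eq_zero.2 (by
    rw [Polynomial.degree_eq_natDegree (left_ne_zero_of_mul hqr), h2, Nat.cast_zero]))

/-- semisimplicity is preserved by field extensions, over a perfect field -/
theorem IsSS.ascend [PerfectField k] {K : Type w'} [Field K] [Algebra k K] {ρ : Representation k G V}
    {ρK : Representation K G (K ⊗[k] V)} (hρK : ∀ g (a : K) v, ρK g (a ⊗ₜ v) = a ⊗ₜ ρ g v) (h : IsSS ρ) :
    IsSS ρK := by
  haveI := h.isSemisimpleRing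
  let B := Algebra.adjoin k (Set.range ρ)
  haveI := isSeparable_center (k := k) B
  haveI : IsSemisimpleRing (K ⊗[k] B) := Groth.Agent.S11684.result k B K
  let Φ : K ⊗[k] B →ₐ[K] Module.End K (K ⊗[k] V) :=
    Algebra.TensorProduct.lift (Algebra.ofId K _) ((Module.End.baseChangeHom k K V).comp B.val)
      fun a b => Algebra.commutes a _
  letI : Module (K ⊗[k] B) (K ⊗[k] V) := Module.compHom _ Φ.toRingHom
  have hΦ : ∀ g, Φ (1 ⊗ₜ (⟨ρ g, Algebra.subset_adjoin ⟨g, rfl⟩⟩ : B)) = ρK g := fun g => by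
    ext v
    simp [Φ]
    exact (hρK g 1 v).symm
  intro S hS
  have hS' : ∀ x : K ⊗[k] B, ∀ v ∈ S, Φ x v ∈ S := by
    intro x
    induction x using TensorProduct.induction_on with
    | zero => simp
    | add a b ha hb => intro v hv; rw [map_add, LinearMap.add_apply]; exact add_mem (ha v hv) (hb v hv)
    | tmul a b =>
      obtain ⟨b, hb⟩ := b
      induction hb using Algebra.adjoin_induction generalizing a with
      | mem x hx =>
        obtain ⟨g, rfl⟩ := hx
        intro v hv
        rw [show a ⊗ₜ[k] (⟨ρ g, Algebra.subset_adjoin ⟨g, rfl⟩⟩ : B) = a • (1 ⊗ₜ ⟨ρ g, Algebra.subset_adjoin ⟨g, rfl⟩⟩) by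
          rw [TensorProduct.smul_tmul', smul_eq_mul, mul_one], map_smul, LinearMap.smul_apply, hΦ]
        exact S.smul_mem a (hS g v hv)
      | algebraMap c =>
        intro v hv
        rw [show a ⊗ₜ[k] (⟨algebraMap k _ c, Subalgebra.algebraMap_mem _ c⟩ : B) = (c • a) • (1 : K ⊗[k] B) by
          rw [Algebra.TensorProduct.one_def, TensorProduct.smul_tmul', smul_eq_mul, mul_one, TensorProduct.smul_tmul]
          congr 1, map_smul, map_one]
        exact S.smul_mem _ hv
      | add x y _ _ hx hy =>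
        intro v hv
        rw [show a ⊗ₜ[k] (⟨x + y, add_mem ‹_› ‹_›⟩ : B) = a ⊗ₜ ⟨x, ‹_›⟩ + a ⊗ₜ ⟨y, ‹_›⟩ from TensorProduct.tmul_add a (⟨x, ‹_›⟩ : B) ⟨y, ‹_›⟩,
          map_add, LinearMap.add_apply]
        exact add_mem (hx a v hv) (hy a v hv)
      | mul x y _ _ hx hy =>
        intro v hv
        rw [show a ⊗ₜ[k] (⟨x * y, mul_mem ‹_› ‹_›⟩ : B) = (a ⊗ₜ ⟨x, ‹_›⟩) * (1 ⊗ₜ ⟨y, ‹_›⟩) by
          rw [Algebra.TensorProduct.tmul_mul_tmul, mul_one]; rfl, map_mul, Module.End.mul_apply]
        exact hx a _ (hy 1 v hv)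
  obtain ⟨T, hT⟩ := exists_isCompl ({ S.toAddSubmonoid with smul_mem' := fun x v hv => hS' x v hv } :
    Submodule (K ⊗[k] B) (K ⊗[k] V))
  refine ⟨{ T.toAddSubmonoid with smul_mem' := fun a v hv => ?_ }, fun g v hv => ?_, ?_, ?_⟩
  · have := T.smul_mem (a • (1 : K ⊗[k] B)) hv
    change Φ (a • 1) v ∈ T at this
    rwa [map_smul, map_one] at this
  · have := T.smul_mem (1 ⊗ₜ (⟨ρ g, Algebra.subset_adjoin ⟨g, rfl⟩⟩ : B)) hv
    change Φ _ v ∈ T at this
    rwa [hΦ] at this
  · exact Submodule.disjoint_def.2 fun x h1 h2 => Submodule.disjoint_def.1 hT.disjoint x h1 h2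
  · refine codisjoint_iff_le_sup.2 fun v _ => ?_
    obtain ⟨a, ha, b, hb, rfl⟩ := Submodule.mem_sup.1 (hT.codisjoint.eq_top ▸ Submodule.mem_top (x := v))
    exact Submodule.mem_sup.2 ⟨a, ha, b, hb, rfl⟩

end Ascend

section Subgroup

variable {H : Type v} [Group H]

/-- averaging over a finite index subgroup -/
theorem IsSS.of_finiteIndex [CharZero k] {ρ : Representation k H V} (N : Subgroup H) [N.FiniteIndex]
    (h : IsSS (ρ.comp N.subtype)) : IsSS ρ := by
  classical
  intro S hS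
  obtain ⟨T, hT, hc⟩ := h S fun g v hv => hS _ v hv
  haveI : Fintype (H ⧸ N) := Fintype.ofFinite _
  let p : V →ₗ[k] V := S.subtype ∘ₗ S.projectionOnto T hc
  have e1 : ∀ y ∈ S, p y = y := fun y hy => congrArg Subtype.val (Submodule.projectionOnto_apply_left hc ⟨y, hy⟩)
  have e2 : ∀ y ∈ T, p y = 0 := fun y hy =>
    congrArg Subtype.val ((Submodule.projectionOnto_apply_eq_zero_iff hc).2 hy)
  have hTn : ∀ n ∈ N, ∀ b ∈ T, ρ n b ∈ T := fun n hn b hb => hT ⟨n, hn⟩ b hb
  have hp : ∀ n ∈ N, ∀ x, p (ρ n x) = ρ n (p x) := by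
    intro n hn x
    obtain ⟨a, ha, b, hb, rfl⟩ := Submodule.mem_sup.1 (hc.codisjoint.eq_top ▸ Submodule.mem_top (x := x))
    rw [map_add, map_add, map_add, map_add, e1 _ (hS n a ha), e2 _ (hTn n hn b hb), e1 a ha, e2 b hb, map_zero]
  let φ : H → (V →ₗ[k] V) := fun g => ρ g ∘ₗ p ∘ₗ ρ g⁻¹
  have hφ : ∀ g g' : H, (QuotientGroup.mk g : H ⧸ N) = QuotientGroup.mk g' → φ g = φ g' := by
    intro g g' hgg
    have hn : g⁻¹ * g' ∈ N := QuotientGroup.eq.1 hgg
    refine LinearMap.ext fun x => ?_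
    show ρ g (p (ρ g⁻¹ x)) = ρ g' (p (ρ g'⁻¹ x))
    conv_lhs => rw [show g⁻¹ = (g⁻¹ * g') * g'⁻¹ by group, map_mul, Module.End.mul_apply, hp _ hn,
      ← Module.End.mul_apply, ← map_mul, mul_inv_cancel_left]
  let q : V →ₗ[k] V := ((Fintype.card (H ⧸ N) : k)⁻¹) • ∑ c : H ⧸ N, φ c.out
  have hq : ∀ g x, q (ρ g x) = ρ g (q x) := by
    intro g x
    simp only [q, LinearMap.smul_apply, LinearMap.sum_apply, map_smul, map_sum]
    congr 1
    refine (Fintype.sum_equiv (MulAction.toPerm g) (fun c : H ⧸ N => ρ g (φ c.out x))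
      (fun c => φ c.out (ρ g x)) fun c => ?_).symm
    have e : φ (g • c).out = φ (g * c.out) := hφ _ _ (by
      refine (QuotientGroup.out_eq' _).trans ?_
      conv_lhs => rw [← QuotientGroup.out_eq' c]
      rfl)
    show ρ g (φ c.out x) = φ (g • c).out (ρ g x)
    rw [e]
    show ρ g (ρ c.out (p (ρ c.out⁻¹ x))) = ρ (g * c.out) (p (ρ (g * c.out)⁻¹ (ρ g x)))
    rw [← Module.End.mul_apply, ← map_mul, ← Module.End.mul_apply, ← Module.End.mul_apply (f := ρ (g * c.out)⁻¹),
      ← map_mul, show (g * c.out)⁻¹ * g = c.out⁻¹ by group]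
    rfl
  have hq1 : ∀ v ∈ S, q v = v := fun v hv => by
    have e : ∀ g, φ g v = v := fun g => by
      show ρ g (p (ρ g⁻¹ v)) = v
      rw [e1 _ (hS _ v hv), ← Module.End.mul_apply, ← map_mul, mul_inv_cancel, map_one, Module.End.one_apply]
    simp only [q, LinearMap.smul_apply, LinearMap.sum_apply, e, Finset.sum_const, Finset.card_univ,
      ← Nat.cast_smul_eq_nsmul k, smul_smul]
    rw [inv_mul_cancel₀ (Nat.cast_ne_zero.2 Fintype.card_ne_zero), one_smul]
  have hq2 : ∀ v, q v ∈ S := fun v => by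
    simp only [q, LinearMap.smul_apply, LinearMap.sum_apply]
    exact S.smul_mem _ (Submodule.sum_mem _ fun c _ => hS _ _ (Subtype.mem _))
  refine ⟨LinearMap.ker q, fun g v hv => ?_, ?_, ?_⟩
  · rw [LinearMap.mem_ker] at hv ⊢
    rw [hq, hv, map_zero]
  · exact Submodule.disjoint_def.2 fun x hx hx' => (hq1 x hx).symm.trans hx'
  · refine codisjoint_iff_le_sup.2 fun v _ => Submodule.mem_sup.2 ⟨q v, hq2 v, v - q v, ?_, by abel⟩
    rw [LinearMap.mem_ker, map_sub, hq1 _ (hq2 v), sub_self]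

/-- Clifford: the restriction to a normal subgroup is semisimple -/
theorem IsSS.restrict_normal [FiniteDimensional k V] {ρ : Representation k H V} (N : Subgroup H) [N.Normal]
    (h : IsSS ρ) : IsSS (ρ.comp N.subtype) := by
  classical
  let P : Submodule k V → Prop := fun S => ∀ n ∈ N, ∀ v ∈ S, ρ n v ∈ S
  -- the invariant subspaces all of whose invariant subspaces have invariant complements inside them
  let Good : Submodule k V → Prop := fun S => P S ∧ ∀ U ≤ S, P U → ∃ T ≤ S, P T ∧ U ⊓ T = ⊥ ∧ U ⊔ T = S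
  have hgood_sup : ∀ S S', Good S → P S' → (∀ U ≤ S', P U → U = ⊥ ∨ U = S') → Good (S ⊔ S') := by
    rintro S S' ⟨hS, hS2⟩ hS' hsimp
    have hsup : P (S ⊔ S') := fun n hn v hv => by
      obtain ⟨a, ha, b, hb, rfl⟩ := Submodule.mem_sup.1 hv
      rw [map_add]; exact Submodule.add_mem_sup (hS n hn a ha) (hS' n hn b hb)
    by_cases hle : S' ≤ S
    · rw [sup_eq_left.2 hle]; exact ⟨hS, hS2⟩
    have hd : S ⊓ S' = ⊥ := (hsimp (S ⊓ S') inf_le_right fun n hn v hv => ⟨hS n hn v hv.1, hS' n hn v hv.2⟩).resolve_right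
      fun e => hle (e ▸ inf_le_left)
    refine ⟨hsup, fun U hU hUP => ?_⟩
    obtain ⟨T, hTS, hT, hdT, hsT⟩ := hS2 (U ⊓ S) inf_le_right fun n hn v hv => ⟨hUP n hn v hv.1, hS n hn v hv.2⟩
    have hUT : U ⊓ T = ⊥ := le_bot_iff.1 fun x hx => hdT ▸ ⟨⟨hx.1, hTS hx.2⟩, hx.2⟩
    by_cases hmem : U ≤ S
    · refine ⟨T ⊔ S', sup_le (hTS.trans le_sup_left) le_sup_right, fun n hn v hv => ?_, ?_, ?_⟩
      · obtain ⟨a, ha, b, hb, rfl⟩ := Submodule.mem_sup.1 hv
        rw [map_add]; exact Submodule.add_mem_sup (hT n hn a ha) (hS' n hn b hb)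
      · refine le_bot_iff.1 fun x hx => ?_
        obtain ⟨t, ht, s, hs, rfl⟩ := Submodule.mem_sup.1 hx.2
        have hs0 : s ∈ S ⊓ S' := ⟨by simpa using sub_mem (hmem hx.1) (hTS ht), hs⟩
        rw [hd, Submodule.mem_bot] at hs0
        subst hs0
        rw [add_zero] at hx ⊢
        exact hUT ▸ (⟨hx.1, ht⟩ : t ∈ U ⊓ T)
      · rw [← sup_assoc, ← inf_eq_left.2 hmem, hsT]
    · refine ⟨T, hTS.trans le_sup_left, hT, hUT, le_antisymm (sup_le hU (hTS.trans le_sup_left)) ?_⟩
      have hSle : S ≤ U ⊔ T := hsT ▸ sup_le_sup_right inf_le_left T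
      refine sup_le hSle ?_
      obtain ⟨u, hu, hnu⟩ := SetLike.not_le_iff_exists.1 hmem
      obtain ⟨a, ha, b, hb, rfl⟩ := Submodule.mem_sup.1 (hU hu)
      have hb' : b ∈ (U ⊔ T) ⊓ S' := ⟨by
        simpa using sub_mem (Submodule.mem_sup_left hu : a + b ∈ U ⊔ T) (hSle ha), hb⟩
      have hP2 : P ((U ⊔ T) ⊓ S') := fun n hn v hv => ⟨by
        obtain ⟨a, ha, b, hb, rfl⟩ := Submodule.mem_sup.1 hv.1
        rw [map_add]; exact Submodule.add_mem_sup (hUP n hn a ha) (hT n hn b hb), hS' n hn v hv.2⟩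
      rcases hsimp _ inf_le_right hP2 with h0 | h1
      · rw [h0, Submodule.mem_bot] at hb'
        subst hb'
        exact absurd (by simpa using ha) hnu
      · exact h1 ▸ inf_le_left
  -- the socle
  let Simple : Submodule k V → Prop := fun S => P S ∧ S ≠ ⊥ ∧ ∀ U ≤ S, P U → U = ⊥ ∨ U = S
  let soc : Submodule k V := ⨆ S : {S // Simple S}, (S : Submodule k V)
  have hgood : Good soc := by
    have : ∀ s : Finset {S // Simple S}, Good (s.sup Subtype.val) := by
      intro s
      induction s using Finset.induction_on with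
      | empty =>
        refine ⟨fun n _ v hv => ?_, fun U hU _ => ⟨⊥, le_refl _, fun n _ v hv => ?_, inf_bot_eq U, ?_⟩⟩
        · rw [Finset.sup_empty, Submodule.mem_bot] at hv; simp [hv]
        · rw [Submodule.mem_bot] at hv; simp [hv]
        · rw [sup_bot_eq]; exact le_antisymm hU bot_le
      | insert a s _ ih =>
        rw [Finset.sup_insert, sup_comm]
        exact hgood_sup _ _ ih a.2.1 a.2.2.2
    have hc : IsCompactElement soc := (Submodule.fg_iff_compact soc).1 (IsNoetherian.noetherian soc)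
    obtain ⟨s, hs⟩ := (CompleteLattice.isCompactElement_iff_exists_le_iSup_of_le_iSup soc).1 hc _
      (fun S : {S // Simple S} => (S : Submodule k V)) le_rfl
    have e : soc = s.sup Subtype.val := le_antisymm hs (by
      rw [Finset.sup_eq_iSup]; exact iSup₂_le fun i _ => le_iSup (fun S : {S // Simple S} => (S : Submodule k V)) i)
    rw [e]; exact this s
  have hsocG : ∀ g, ∀ v ∈ soc, ρ g v ∈ soc := by
    intro g v hv
    have : soc.map (ρ g) ≤ soc := by
      rw [Submodule.map_iSup]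
      refine iSup_le fun S => ?_
      obtain ⟨hS, hne, hS2⟩ := S.2
      have hinv : ∀ (a b : H) (x : V), a * b = 1 → ρ a (ρ b x) = x := fun a b x hab => by
        rw [← Module.End.mul_apply, ← map_mul, hab, map_one, Module.End.one_apply]
      have hconj : ∀ (T : Submodule k V), P T → ∀ a : H, P (T.map (ρ a)) := by
        intro T hT a n hn
        rintro _ ⟨x, hx, rfl⟩
        refine ⟨ρ (a⁻¹ * n * a) x, hT _ (by simpa using Subgroup.Normal.conj_mem ‹_› n hn a⁻¹) x hx, ?_⟩
        rw [← Module.End.mul_apply, ← map_mul, ← Module.End.mul_apply, ← map_mul,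
          show a * (a⁻¹ * n * a) = n * a by group]
      refine le_iSup_of_le ⟨_, hconj _ hS g, fun h0 => hne ?_, fun U hU hUP => ?_⟩ le_rfl
      · refine (Submodule.eq_bot_iff _).2 fun x hx => ?_
        have := (Submodule.eq_bot_iff _).1 h0 _ ⟨x, hx, rfl⟩
        rw [← hinv g⁻¹ g x (inv_mul_cancel g), this, map_zero]
      · have hle : U.map (ρ g⁻¹) ≤ S := by
          rintro _ ⟨x, hx, rfl⟩
          obtain ⟨y, hy, rfl⟩ := hU hx
          rwa [hinv _ _ _ (inv_mul_cancel g)]
        have back : (U.map (ρ g⁻¹)).map (ρ g) = U := by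
          ext x
          simp only [Submodule.mem_map, exists_exists_and_eq_and, hinv _ _ _ (mul_inv_cancel g), exists_eq_right]
        rcases hS2 _ hle (hconj _ hUP g⁻¹) with h0 | h1
        · left; rw [← back, h0, Submodule.map_bot]
        · right; rw [← back, h1]
    exact this ⟨v, hv, rfl⟩
  obtain ⟨C, hC, hcC⟩ := h soc hsocG
  have hCbot : C = ⊥ := by
    by_contra hne
    obtain ⟨S, ⟨hSC, hS, hSne⟩, hmin⟩ := (IsWellFounded.wf (r := (· < · : Submodule k V → Submodule k V → Prop))).has_min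
      {S | S ≤ C ∧ P S ∧ S ≠ ⊥} ⟨C, le_rfl, fun n _ v hv => hC n v hv, hne⟩
    have hs : Simple S := ⟨hS, hSne, fun U hU hUP => by
      by_contra hh
      push Not at hh
      exact hmin U ⟨hU.trans hSC, hUP, hh.1⟩ (lt_of_le_of_ne hU hh.2)⟩
    exact hSne (le_bot_iff.1 (hcC.inf_eq_bot ▸ le_inf (le_iSup (fun S : {S // Simple S} => (S : Submodule k V)) ⟨S, hs⟩) hSC))
  have htop : soc = ⊤ := by simpa [hCbot] using hcC.sup_eq_top
  intro U hU
  obtain ⟨T, -, hT, hd, hs⟩ := hgood.2 U (htop ▸ le_top) fun n hn v hv => hU ⟨n, hn⟩ v hv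
  exact ⟨T, fun n v hv => hT n n.2 v hv, disjoint_iff.2 hd, codisjoint_iff.2 (hs.trans htop)⟩

end Subgroup

end Groth.L20.RepTensor
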