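import Groth.Agent.L20.RepTensor.Basic
import Groth.Agent.L08.Chevalley
import Groth.Agent.S7974
import Mathlib.RingTheory.Idempotents
import Mathlib.RingTheory.Spectrum.Prime.Noetherian
import Mathlib.RingTheory.HopfAlgebra.Quotient

/-!
# Hopf algebras with a separating group of points: comodules and the connected component
-/

set_option autoImplicit false

universe u v

open TensorProduct WithConv

noncomputable section

namespace Groth.L20.RepTensor

variable {k : Type u} [Field k] {A : Type u} [CommRing A] [HopfAlgebra k A] {G : Type v} [Group G]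
  (Φ : G →* WithConv (A →ₐ[k] k))

/-- the value of a function at a point -/
abbrev ev (g : G) (a : A) : k := (Φ g).ofConv a

/-- the points separate functions -/
def Separating : Prop := ∀ a : A, (∀ g, ev Φ g a = 0) → a = 0

/-- the pairing of a tensor with a pair of points -/
def ev₂ (g h : G) : A ⊗[k] A →ₐ[k] k :=
  Algebra.TensorProduct.lift (Φ g).ofConv (Φ h).ofConv fun _ _ => mul_comm _ _

theorem ev₂_tmul (g h : G) (a b : A) : ev₂ Φ g h (a ⊗ₜ b) = ev Φ g a * ev Φ h b := by
  simp [ev₂]

theorem ev_mul (g h : G) (a : A) : ev Φ (g * h) a = ev₂ Φ g h (Coalgebra.comul (R := k) a) := by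
  show (Φ (g * h)).ofConv a = _
  rw [map_mul, AlgHom.convMul_apply]
  induction Coalgebra.comul (R := k) a using TensorProduct.induction_on with
  | zero => simp
  | add p q hp hq => simp only [map_add, hp, hq]
  | tmul p q => simp [ev₂]

theorem ev_one (a : A) : ev Φ 1 a = Coalgebra.counit (R := k) a := by
  show (Φ 1).ofConv a = _
  rw [map_one]; rfl

variable {Φ}

theorem Separating.tensor (h : Separating Φ) {z z' : A ⊗[k] A} (hz : ∀ g g', ev₂ Φ g g' z = ev₂ Φ g g' z') :
    z = z' := by
  rw [← sub_eq_zero]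
  classical
  let b := Module.Free.chooseBasis k A
  obtain ⟨c, hc⟩ := (TensorProduct.equivFinsuppOfBasisLeft (N := A) b).symm.surjective (z - z')
  rw [← hc, TensorProduct.equivFinsuppOfBasisLeft_symm_apply]
  have hval : ∀ g', (c.sum fun i a => ev Φ g' a • b i) = 0 := fun g' => h _ fun g => by
    have := sub_eq_zero.2 (hz g g')
    rw [← map_sub, ← hc, TensorProduct.equivFinsuppOfBasisLeft_symm_apply, Finsupp.sum, map_sum] at this
    rw [Finsupp.sum]
    simp only [ev, map_sum, map_smul, smul_eq_mul]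
    rw [← this]
    exact Finset.sum_congr rfl fun i _ => by rw [ev₂_tmul, mul_comm]
  have hc0 : ∀ i, c i = 0 := fun i => h _ fun g' => by
    have h2 := congrArg (fun y => b.repr y i) (hval g')
    simp only [Finsupp.sum, map_sum, map_smul, map_zero, Finsupp.coe_finsetSum, Finset.sum_apply,
      Module.Basis.repr_self, Finsupp.smul_apply, Finsupp.single_apply, smul_eq_mul, mul_ite, mul_one, mul_zero,
      Finsupp.coe_zero, Pi.zero_apply, Finset.sum_ite_eq'] at h2
    by_cases hi : i ∈ c.support
    · rwa [if_pos hi] at h2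
    · rw [Finsupp.notMem_support_iff.1 hi]; simp [ev]
  simp [Finsupp.sum, hc0]

/-- a representation with coefficients in the coordinate ring is a comodule -/
theorem exists_comod (h : Separating Φ) {n : ℕ} (θ : Representation k G (Fin n → k))
    (c : Fin n → Fin n → A) (hc : ∀ g i j, ev Φ g (c i j) = θ g (Pi.single j 1) i) :
    ∃ cV : HopfRep.Comod k A (Fin n → k),
      letI := cV
      ∀ g v, Groth.L08.fAct (Fin n → k) (Φ g).ofConv.toLinearMap v = θ g v := by
  have hmat : Groth.L08.Chevalley.IsComatrix (k := k) c := by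
    refine ⟨fun i j => h.tensor fun g g' => ?_, fun i j => ?_⟩
    · rw [← ev_mul, hc, map_mul, Module.End.mul_apply, map_sum]
      simp only [ev₂_tmul, hc]
      conv_lhs => rw [pi_eq_sum_univ' (θ g' (Pi.single j 1))]
      rw [map_sum, Finset.sum_apply]
      refine Finset.sum_congr rfl fun l _ => ?_
      rw [map_smul, Pi.smul_apply, smul_eq_mul, mul_comm]
    · rw [← ev_one Φ, hc, map_one, Module.End.one_apply, Pi.single_apply]
  refine ⟨Groth.L08.Chevalley.comodOf c hmat, fun g v => ?_⟩
  letI := Groth.L08.Chevalley.comodOf c hmat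
  refine LinearMap.congr_fun ((Pi.basisFun k (Fin n)).ext fun j => ?_) v
  rw [Pi.basisFun_apply, Groth.L08.fAct_apply]
  show TensorProduct.rid k _ ((Φ g).ofConv.toLinearMap.lTensor _ (Groth.L08.Chevalley.coactOf c (Pi.single j 1))) = _
  rw [Groth.L08.Chevalley.coactOf_single]
  ext i
  simp only [map_sum, LinearMap.lTensor_tmul, TensorProduct.rid_tmul, Finset.sum_apply, Pi.smul_apply,
    AlgHom.toLinearMap_apply, smul_eq_mul, Pi.single_apply, mul_ite, mul_one, mul_zero, Finset.sum_ite_eq,
    Finset.mem_univ, if_true]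
  exact hc g i j

/-- invariant subspaces are subcomodules -/
theorem isSubcomod_of_stable (h : Separating Φ) {V : Type u} [AddCommGroup V] [Module k V] [HopfRep.Comod k A V]
    (θ : Representation k G V) (hθ : ∀ g v, Groth.L08.fAct V (Φ g).ofConv.toLinearMap v = θ g v)
    (S : Submodule k V) (hS : ∀ g, ∀ v ∈ S, θ g v ∈ S) : HopfRep.IsSubcomod (k := k) (A := A) S := by
  refine Groth.L08.isSubcomod_iff.2 fun φ v hv => ?_
  by_contra hn
  obtain ⟨τ, hτ1, hτ2⟩ := Submodule.exists_dual_map_eq_bot_of_notMem (p := S) hn inferInstance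
  refine hτ1 ?_
  rw [← Groth.L08.apply_cf (A := A), show Groth.L08.cf (A := A) τ v = 0 from h _ fun g => ?_, map_zero]
  show (Φ g).ofConv.toLinearMap (Groth.L08.cf (A := A) τ v) = 0
  rw [Groth.L08.apply_cf, hθ]
  exact (Submodule.eq_bot_iff _).1 hτ2 _ ⟨_, hS g v hv, rfl⟩

/-- semisimple representations with coefficients in the coordinate ring are semisimple comodules -/
theorem isSemisimpleComod_of_isSS (h : Separating Φ) {V : Type u} [AddCommGroup V] [Module k V]
    [HopfRep.Comod k A V] (θ : Representation k G V)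
    (hθ : ∀ g v, Groth.L08.fAct V (Φ g).ofConv.toLinearMap v = θ g v) (hss : IsSS θ) :
    HopfRep.IsSemisimpleComod k A V := by
  intro S hS
  obtain ⟨T, hT, hc⟩ := hss S fun g v hv => by rw [← hθ]; exact Groth.L08.isSubcomod_iff.1 hS _ v hv
  exact ⟨T, isSubcomod_of_stable h θ hθ T hT, hc⟩

/-- semisimple comodules give semisimple representations -/
theorem isSS_of_isSemisimpleComod (h : Separating Φ) {V : Type u} [AddCommGroup V] [Module k V]
    [HopfRep.Comod k A V] (θ : Representation k G V)
    (hθ : ∀ g v, Groth.L08.fAct V (Φ g).ofConv.toLinearMap v = θ g v)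
    (hss : HopfRep.IsSemisimpleComod k A V) : IsSS θ := by
  intro S hS
  obtain ⟨T, hT, hc⟩ := hss S (isSubcomod_of_stable h θ hθ S hS)
  exact ⟨T, fun g v hv => by rw [← hθ]; exact Groth.L08.isSubcomod_iff.1 hT _ v hv, hc⟩

variable (Φ) in
/-- right translation -/
def rTrans (g : G) : A →ₐ[k] A :=
  (Algebra.TensorProduct.lift (AlgHom.id k A) ((Algebra.ofId k A).comp (Φ g).ofConv) fun _ _ => mul_comm _ _).comp
    (Bialgebra.comulAlgHom k A)

theorem ev_rTrans (g h : G) (a : A) : ev Φ h (rTrans Φ g a) = ev Φ (h * g) a := by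
  rw [ev_mul]
  simp only [ev, rTrans, AlgHom.comp_apply, Bialgebra.comulAlgHom_apply]
  induction Coalgebra.comul (R := k) a using TensorProduct.induction_on with
  | zero => simp
  | add p q hp hq => simp only [map_add, hp, hq]
  | tmul p q => simp [ev₂, Algebra.ofId_apply]

variable (Φ) in
/-- left translation -/
def lTrans (g : G) : A →ₐ[k] A :=
  (Algebra.TensorProduct.lift ((Algebra.ofId k A).comp (Φ g).ofConv) (AlgHom.id k A) fun _ _ => mul_comm _ _).comp
    (Bialgebra.comulAlgHom k A)

theorem ev_lTrans (g h : G) (a : A) : ev Φ h (lTrans Φ g a) = ev Φ (g * h) a := by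
  rw [ev_mul]
  simp only [ev, lTrans, AlgHom.comp_apply, Bialgebra.comulAlgHom_apply]
  induction Coalgebra.comul (R := k) a using TensorProduct.induction_on with
  | zero => simp
  | add p q hp hq => simp only [map_add, hp, hq]
  | tmul p q => simp [ev₂, Algebra.ofId_apply]

theorem Separating.isReduced (h : Separating Φ) : _root_.IsReduced A :=
  ⟨fun a ⟨n, hn⟩ => h a fun g => IsReduced.eq_zero _ ⟨n, by rw [← map_pow, hn, map_zero]⟩⟩

theorem finite_idempotents (R : Type*) [CommRing R] [IsNoetherianRing R] : {e : R | IsIdempotentElem e}.Finite := by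
  refine Set.Finite.of_finite_image (f := fun e => {p : Ideal R | p ∈ minimalPrimes R ∧ e ∈ p}) ?_ ?_
  · refine (minimalPrimes.finite_of_isNoetherianRing R).finite_subsets.subset ?_
    rintro _ ⟨e, -, rfl⟩ p hp
    exact hp.1
  · intro x hx y hy e
    have key : ∀ x y : R, IsIdempotentElem x → IsIdempotentElem y →
        (∀ p ∈ minimalPrimes R, y ∈ p → x ∈ p) → x * y = x := by
      intro x y hx hy h
      have hid : IsIdempotentElem (x * (1 - y)) := hx.mul hy.one_sub
      have hmem : x * (1 - y) ∈ nilradical R := by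
        rw [nilradical, ← Ideal.sInf_minimalPrimes, Ideal.mem_sInf]
        intro p hp
        haveI := hp.1.1
        by_cases hyp : y ∈ p
        · exact Ideal.mul_mem_right _ p (h p hp hyp)
        · refine Ideal.mul_mem_left p x ((Ideal.IsPrime.mem_or_mem ‹_› (?_ : y * (1 - y) ∈ p)).resolve_left hyp)
          rw [mul_sub, mul_one, hy, sub_self]
          exact p.zero_mem
      obtain ⟨n, hn⟩ := hmem
      have h0 : x * (1 - y) = 0 := by
        rcases n with _ | n
        · rw [pow_zero] at hn; rw [← mul_one (x * (1 - y)), hn, mul_zero]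
        · rwa [hid.pow_succ_eq] at hn
      rwa [mul_sub, mul_one, sub_eq_zero, eq_comm] at h0
    have h1 := key x y hx hy (fun p hp h => ((Set.ext_iff.1 e p).2 ⟨hp, h⟩).2)
    have h2 := key y x hy hx (fun p hp h => ((Set.ext_iff.1 e p).1 ⟨hp, h⟩).2)
    rw [← h1, mul_comm, h2]

/-- a finite index normal subgroup whose closure is connected -/
theorem exists_connected (h : Separating Φ) [Algebra.FiniteType k A] :
    ∃ (N : Subgroup G) (_ : N.Normal) (_ : N.FiniteIndex) (B : Type u) (_ : CommRing B) (_ : HopfAlgebra k B)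
      (π : A →ₐ[k] B) (Ψ : N →* WithConv (B →ₐ[k] k)),
      Function.Surjective π ∧ Algebra.FiniteType k B ∧ Separating Ψ ∧
        (∀ (g : N) (a : A), ev Ψ g (π a) = ev Φ g a) ∧ ∀ e : B, IsIdempotentElem e → e = 0 ∨ e = 1 := by
  classical
  haveI : IsNoetherianRing A := Algebra.FiniteType.isNoetherianRing k A
  let I := finite_idempotents A
  let F : Finset A := I.toFinset.filter fun x => ev Φ 1 x = 1
  let e₀ : A := ∏ x ∈ F, x
  have h01 : ∀ (g : G) x, IsIdempotentElem x → ev Φ g x = 0 ∨ ev Φ g x = 1 := fun g x hx =>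
    IsIdempotentElem.iff_eq_zero_or_one.1 (hx.map (Φ g).ofConv)
  have he₀ : IsIdempotentElem e₀ := by
    show (∏ x ∈ F, x) * ∏ x ∈ F, x = _
    rw [← Finset.prod_mul_distrib]
    exact Finset.prod_congr rfl fun x hx => I.mem_toFinset.1 (Finset.mem_filter.1 hx).1
  have he1 : ev Φ 1 e₀ = 1 := by
    show (Φ 1).ofConv (∏ x ∈ F, x) = 1
    rw [map_prod]
    exact Finset.prod_eq_one fun x hx => (Finset.mem_filter.1 hx).2
  have habs : ∀ x, IsIdempotentElem x → ev Φ 1 x = 1 → e₀ * x = e₀ := fun x hx h1 => by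
    have hx' : x ∈ F := Finset.mem_filter.2 ⟨I.mem_toFinset.2 hx, h1⟩
    show (∏ y ∈ F, y) * x = _
    rw [← Finset.mul_prod_erase F _ hx', mul_right_comm, hx]
    exact Finset.mul_prod_erase F (fun y => y) hx'
  have hatom : ∀ x, IsIdempotentElem x → e₀ * x = e₀ ∨ e₀ * x = 0 := fun x hx => by
    rcases h01 1 x hx with h0 | h1
    · right
      have := habs (1 - x) hx.one_sub (by rw [ev, map_sub, map_one]; exact by rw [show (Φ 1).ofConv x = 0 from h0, sub_zero])
      rwa [mul_sub, mul_one, sub_eq_self] at this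
    · exact Or.inl (habs x hx h1)
  have hmul : ∀ g g' a, rTrans Φ (g * g') a = rTrans Φ g (rTrans Φ g' a) := fun g g' a =>
    sub_eq_zero.1 (h _ fun x => by rw [ev, map_sub, sub_eq_zero]; show ev Φ x _ = ev Φ x _; rw [ev_rTrans, ev_rTrans, ev_rTrans, mul_assoc])
  have hone : ∀ a, rTrans Φ 1 a = a := fun a =>
    sub_eq_zero.1 (h _ fun x => by rw [ev, map_sub, sub_eq_zero]; show ev Φ x _ = ev Φ x _; rw [ev_rTrans, mul_one])
  have hinj : ∀ g, Function.Injective (rTrans Φ g) := fun g => Function.LeftInverse.injective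
    (g := rTrans Φ g⁻¹) fun a => by rw [← hmul, inv_mul_cancel, hone]
  have hfix : ∀ g, ev Φ g e₀ = 1 → rTrans Φ g e₀ = e₀ := by
    intro g hg
    have hid : IsIdempotentElem (rTrans Φ g e₀) := he₀.map _
    have h1 : e₀ * rTrans Φ g e₀ = e₀ := habs _ hid (by rw [ev_rTrans, one_mul, hg])
    have hgatom : ∀ x, IsIdempotentElem x → rTrans Φ g e₀ * x = rTrans Φ g e₀ ∨ rTrans Φ g e₀ * x = 0 := fun x hx => by
      have e : x = rTrans Φ g (rTrans Φ g⁻¹ x) := by rw [← hmul, mul_inv_cancel, hone]
      rcases hatom _ (hx.map (rTrans Φ g⁻¹)) with a | a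
      · left; rw [e, ← map_mul, a]
      · right; rw [e, ← map_mul, a, map_zero]
    rcases hgatom e₀ he₀ with a | a
    · rw [mul_comm] at a; rw [← a, h1]
    · rw [mul_comm, h1] at a
      exfalso
      exact zero_ne_one (α := k) (by rw [← he1, a, ev, map_zero])
  let N : Subgroup G :=
    { carrier := {g | ev Φ g e₀ = 1}
      one_mem' := he1
      mul_mem' := fun {a b} ha hb => by
        show ev Φ (a * b) e₀ = 1
        rw [← ev_rTrans, hfix b hb]; exact ha
      inv_mem' := fun {a} ha => by
        show ev Φ a⁻¹ e₀ = 1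
        have := ev_rTrans (Φ := Φ) a a⁻¹ e₀
        rw [hfix a ha, inv_mul_cancel, he1] at this
        exact this }
  haveI hN : N.Normal := ⟨fun n hn g => by
    show ev Φ (g * n * g⁻¹) e₀ = 1
    let c : A := lTrans Φ g (rTrans Φ g⁻¹ e₀)
    have hc : ∀ x, ev Φ x c = ev Φ (g * x * g⁻¹) e₀ := fun x => by
      show ev Φ x (lTrans Φ g _) = _
      rw [ev_lTrans, ev_rTrans]
    have hc1 : e₀ * c = e₀ := habs c ((he₀.map _).map _) (by rw [hc, mul_one, mul_inv_cancel, he1])
    rw [← hc n]
    have h2 := congrArg (ev Φ n) hc1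
    simp only [ev, map_mul] at h2
    rw [show (Φ n).ofConv e₀ = 1 from hn, one_mul] at h2
    exact h2⟩
  haveI : N.FiniteIndex := by
    letI : MulAction G A :=
      { smul := fun g a => rTrans Φ g a
        one_smul := hone
        mul_smul := hmul }
    have hle : MulAction.stabilizer G e₀ = N := by
      ext g
      rw [MulAction.mem_stabilizer_iff]
      show rTrans Φ g e₀ = e₀ ↔ ev Φ g e₀ = 1
      refine ⟨fun e => ?_, hfix g⟩
      have := congrArg (ev Φ 1) e
      rwa [ev_rTrans, one_mul, he1] at this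
    rw [← hle]
    haveI : Finite (MulAction.orbit G e₀) := (I.subset (by
      rintro _ ⟨g, rfl⟩
      exact he₀.map (rTrans Φ g))).to_subtype
    haveI : Finite (G ⧸ MulAction.stabilizer G e₀) := Finite.of_equiv _ (MulAction.orbitEquivQuotientStabilizer G e₀)
    exact Subgroup.finiteIndex_of_finite_quotient
  let S : Subgroup (WithConv (A →ₐ[k] k)) := N.map Φ
  let J : Ideal A := ⨅ x ∈ S, RingHom.ker (WithConv.ofConv x : A →ₐ[k] k)
  haveI : J.IsHopfIdeal k := Groth.Agent.S7974.result k A S
  have hJ : ∀ a, a ∈ J ↔ ∀ g : N, ev Φ g a = 0 := fun a => by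
    simp only [J, Ideal.mem_iInf, RingHom.mem_ker]
    refine ⟨fun h g => h _ ⟨g, g.2, rfl⟩, ?_⟩
    rintro h _ ⟨g, hg, rfl⟩
    exact h ⟨g, hg⟩
  let π : A →ₐ[k] A ⧸ J := Ideal.Quotient.mkₐ k J
  let lift : N → (A ⧸ J →ₐ[k] k) := fun g => Ideal.Quotient.liftₐ J (Φ g).ofConv fun a ha => (hJ a).1 ha g
  have hlift : ∀ g a, lift g (π a) = ev Φ g a := fun g a => rfl
  let Ψ : N →* WithConv (A ⧸ J →ₐ[k] k) :=
    { toFun := fun g => toConv (lift g)
      map_one' := WithConv.ofConv_injective (Ideal.Quotient.algHom_ext k (AlgHom.ext fun a => by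
        show ev Φ (1 : G) a = _
        rw [ev_one]; rfl))
      map_mul' := fun g g' => WithConv.ofConv_injective (Ideal.Quotient.algHom_ext k (AlgHom.ext fun a => by
        show ev Φ ((g : G) * g') a = (toConv (lift g) * toConv (lift g')).ofConv (π a)
        rw [ev_mul, AlgHom.convMul_apply]
        show _ = _
        rw [show Coalgebra.comul (R := k) (π a) = TensorProduct.map π.toLinearMap π.toLinearMap (Coalgebra.comul (R := k) a) from
          (LinearMap.congr_fun (Bialgebra.Quotient.mkBialgHom (R := k) J).toCoalgHom.map_comp_comul a).symm]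
        induction Coalgebra.comul (R := k) a using TensorProduct.induction_on with
        | zero => simp
        | add p q hp hq => simp only [map_add, hp, hq]
        | tmul p q => simp [ev₂, hlift])) }
  refine ⟨N, hN, inferInstance, A ⧸ J, inferInstance, inferInstance, π, Ψ, Ideal.Quotient.mk_surjective,
    Algebra.FiniteType.of_surjective π Ideal.Quotient.mk_surjective, ?_, fun g a => rfl, ?_⟩
  · intro b hb
    obtain ⟨a, rfl⟩ := Ideal.Quotient.mk_surjective b
    exact Ideal.Quotient.eq_zero_iff_mem.2 ((hJ a).2 fun g => hb g)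
  · intro b hb
    obtain ⟨a, rfl⟩ := Ideal.Quotient.mk_surjective b
    have hval : ∀ g, g ∈ N → ev Φ g a = 0 ∨ ev Φ g a = 1 := fun g hg =>
      IsIdempotentElem.iff_eq_zero_or_one.1 (hb.map (lift ⟨g, hg⟩) : IsIdempotentElem (ev Φ g a))
    have hout : ∀ g, g ∉ N → ev Φ g e₀ = 0 := fun g hg => (h01 g e₀ he₀).resolve_right hg
    have hid : IsIdempotentElem (a * e₀) := sub_eq_zero.1 (h _ fun g => by
      simp only [ev, map_sub, map_mul]
      by_cases hg : g ∈ N
      · rw [show (Φ g).ofConv e₀ = 1 from hg]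
        rcases hval g hg with e | e <;> simp [show (Φ g).ofConv a = _ from e]
      · rw [show (Φ g).ofConv e₀ = 0 from hout g hg]; simp)
    rcases hatom _ hid with e | e
    · right
      refine Ideal.Quotient.eq.2 ((hJ _).2 fun g => ?_)
      have h2 := congrArg (ev Φ g) e
      simp only [ev, map_mul] at h2
      rw [show (Φ g).ofConv e₀ = 1 from g.2] at h2
      simp only [mul_one, one_mul] at h2
      simp [ev, h2]
    · left
      refine Ideal.Quotient.eq_zero_iff_mem.2 ((hJ _).2 fun g => ?_)
      have h2 := congrArg (ev Φ g) e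
      simp only [ev, map_mul, map_zero] at h2
      rw [show (Φ g).ofConv e₀ = 1 from g.2] at h2
      simpa [ev] using h2

end Groth.L20.RepTensor
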